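import Cfsg.Agent.INV.K4.Sv

/-! The degree equation `1 + S + T + u + v = 0` with the Brauer--Tuan congruences. -/

set_option autoImplicit false

namespace CL.K4

theorem m4 (a : ℕ) : (-4 : ℤ) ^ a ≡ 1 [ZMOD 5] := by
  simpa using (show (-4 : ℤ) ≡ 1 [ZMOD 5] by decide).pow a

theorem m9 (a : ℕ) : (-9 : ℤ) ^ a ≡ 1 [ZMOD 5] := by
  simpa using (show (-9 : ℤ) ≡ 1 [ZMOD 5] by decide).pow a

theorem sm_of {t : ℤ} {A B : ℕ} (h5 : t ≡ 1 [ZMOD 5]) (h : t ∣ 2 ^ B * 3 ^ A) :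
    ∃ e a b : ℕ, e ≤ 1 ∧ e + 2 * a ≤ B ∧ e + 2 * b ≤ A ∧ t = 6 ^ e * (-4) ^ a * (-9) ^ b := by
  have h1 : t.natAbs ∣ 2 ^ B * 3 ^ A := Int.natCast_dvd_natCast.1 (by exact_mod_cast Int.natAbs_dvd.2 h)
  obtain ⟨x, y, hx, hy, e⟩ := (Nat.dvd_mul).1 h1
  obtain ⟨k, hk, rfl⟩ := (Nat.dvd_prime_pow Nat.prime_two).1 hx
  obtain ⟨l, hl, rfl⟩ := (Nat.dvd_prime_pow Nat.prime_three).1 hy
  have e2 : t.natAbs = (2 ^ (k % 2) * 3 ^ (l % 2) * ((-4) ^ (k / 2) * (-9) ^ (l / 2)) : ℤ).natAbs := by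
    rw [← e]
    conv_lhs => rw [← Nat.mod_add_div k 2, ← Nat.mod_add_div l 2]
    simp only [Int.natAbs_mul, Int.natAbs_pow, pow_add, pow_mul]
    norm_num
    ring
  have w := (m4 (k / 2)).mul (m9 (l / 2))
  rcases Nat.mod_two_eq_zero_or_one k with k2 | k2 <;>
    rcases Nat.mod_two_eq_zero_or_one l with l2 | l2 <;> rw [k2, l2] at e2 <;>
    rcases Int.natAbs_eq_natAbs_iff.1 e2 with e3 | e3
  · exact ⟨0, k / 2, l / 2, by omega, by omega, by omega, by rw [e3]; ring⟩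
  all_goals first
    | exact ⟨1, k / 2, l / 2, by omega, by omega, by omega, by rw [e3]; ring1⟩
    | (exfalso; unfold Int.ModEq at w h5; generalize (-4 : ℤ) ^ (k / 2) * (-9) ^ (l / 2) = z at *
       omega)

theorem m16 (j : ℕ) : (-9 : ℤ) ^ j % 16 = 1 ∨ (-9 : ℤ) ^ j % 16 = 7 := by
  induction j with
  | zero => simp
  | succ j ih => rw [pow_succ]; omega

theorem odd9 (j : ℕ) : ¬ (2 : ℤ) ∣ (-9) ^ j := by have := m16 j; omega

theorem m3 (i : ℕ) : ¬ (3 : ℤ) ∣ (-4) ^ i := fun h => by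
  have := Int.prime_three.dvd_of_dvd_pow h
  omega

theorem p4 (a : ℕ) : (2 : ℤ) ^ (2 * a) ∣ (-4) ^ a := by
  rw [pow_mul]; exact pow_dvd_pow_of_dvd (by norm_num) a

theorem p9 (a : ℕ) : (3 : ℤ) ^ (2 * a) ∣ (-9) ^ a := by
  rw [pow_mul]; exact pow_dvd_pow_of_dvd (by norm_num) a

theorem p4' (a : ℕ) : (-4 : ℤ) ^ a ∣ 2 ^ (2 * a) := by
  rw [pow_mul]; exact pow_dvd_pow_of_dvd (by norm_num) a

theorem p9' (a : ℕ) : (-9 : ℤ) ^ a ∣ 3 ^ (2 * a) := by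
  rw [pow_mul]; exact pow_dvd_pow_of_dvd (by norm_num) a

/-- exact valuations -/
theorem le_of_dvd {p x w : ℤ} (hp : Prime p) {k n : ℕ} (hx : x ∣ p ^ k) (hw : ¬ p ∣ w)
    (h : p ^ n ∣ x * w) : n ≤ k :=
  (pow_dvd_pow_iff hp.ne_zero hp.not_unit).1
    ((hp.pow_dvd_of_dvd_mul_right n hw h).trans hx)

theorem le3 {d a : ℕ} (ha : 0 < a) (h : (3 : ℤ) ^ d ∣ 1 + (-4) ^ a) : 3 ^ d ≤ 3 * a := by
  rcases d with _ | d
  · omega
  have h1 : ((4 : ℤ) ^ (2 * a) - 1) = (1 + (-4) ^ a) * ((-4) ^ a - 1) := by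
    rw [show (4 : ℤ) ^ (2 * a) = ((-4) ^ a) ^ 2 by rw [← pow_mul, mul_comm a, pow_mul, pow_mul]; norm_num]
    ring
  have h2 : ((3 ^ (d + 1) : ℕ) : ℤ) ∣ 4 ^ (2 * a) - 1 := by
    rw [h1]; push_cast; exact h.mul_right _
  have h3 := (ZMod.intCast_zmod_eq_zero_iff_dvd _ _).2 h2
  have h4 := ZMod.orderOf_one_add_prime Nat.prime_three (by norm_num) d
  have h5 : 3 ^ d ∣ 2 * a := by
    rw [← h4, orderOf_dvd_iff_pow_eq_one, ← sub_eq_zero, ← h3]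
    push_cast
    norm_num
  have := Nat.le_of_dvd ha ((Nat.Coprime.pow_left d (by norm_num)).dvd_of_dvd_mul_left h5)
  rw [pow_succ]; omega

theorem sq4 (a : ℕ) : ((-4 : ℤ) ^ a) ^ 2 = 16 ^ a := by rw [← pow_mul, mul_comm, pow_mul]; norm_num

theorem sq9 (a : ℕ) : ((-9 : ℤ) ^ a) ^ 2 = 81 ^ a := by rw [← pow_mul, mul_comm, pow_mul]; norm_num

theorem val_eq {p x y w : ℤ} (hp : Prime p) {k l n : ℕ} (hk : k ≤ n) (hl : l ≤ n)
    (x1 : x ∣ p ^ k) (x2 : p ^ k ∣ x) (y1 : y ∣ p ^ l) (y2 : p ^ l ∣ y) (hw : ¬ p ∣ w)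
    (h : p ^ n ∣ x + y * w) : k = l := by
  rcases lt_trichotomy k l with m | m | m
  · have := (dvd_add_left (((pow_dvd_pow p m).trans y2).mul_right w)).1
      ((pow_dvd_pow p (by omega)).trans h)
    have := le_of_dvd hp x1 (w := 1) hp.not_dvd_one (by simpa using this)
    omega
  · exact m
  · have := (dvd_add_right ((pow_dvd_pow p m).trans x2)).1 ((pow_dvd_pow p (by omega)).trans h)
    have := le_of_dvd hp y1 hw this
    omega

theorem two {B i e a b : ℕ} (he : e ≤ 1) (hi : 2 * i ≤ B) (ha : e + 2 * a ≤ B) {u : ℤ}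
    (hu : u = 6 ^ e * (-4) ^ a * (-9) ^ b) (h : (2 : ℤ) ^ B ∣ (-4) ^ i + u)
    (hq : u ^ 2 ≤ 100 * (2 ^ B) ^ 2) :
    (-4) ^ i + u = 2 * (-4) ^ i ∨ (-4) ^ i + u = -8 * (-4) ^ i := by
  have h1 : 2 * i = e + 2 * a := val_eq Int.prime_two hi ha (p4' i) (p4 i)
    (y := 2 ^ e * (-4) ^ a) (w := 3 ^ e * (-9) ^ b)
    (by rw [pow_add]; exact mul_dvd_mul_left _ (p4' a))
    (by rw [pow_add]; exact mul_dvd_mul_left _ (p4 a))
    (fun h => (Int.prime_two.dvd_or_dvd h).elim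
      (fun h => by have := Int.prime_two.dvd_of_dvd_pow h; omega) (odd9 b))
    (by rwa [hu, show (6 : ℤ) = 2 * 3 by norm_num, mul_pow, mul_right_comm (2 ^ e : ℤ),
      mul_assoc (2 ^ e * (-4) ^ a : ℤ)] at h)
  obtain rfl : e = 0 := by omega
  obtain rfl : i = a := by omega
  rw [pow_zero, one_mul] at hu
  have hB : B ≤ 2 * i + 3 := by
    by_contra hB
    have h2 : (2 : ℤ) ^ (2 * i) * 2 ^ 4 ∣ 2 ^ (2 * i) * (1 + (-9) ^ b) := by
      rw [← pow_add]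
      refine ((pow_dvd_pow 2 (by omega)).trans h).trans ?_
      rw [hu, ← mul_one_add]
      exact mul_dvd_mul_right (p4' i) _
    have := (mul_dvd_mul_iff_left (by positivity)).1 h2
    have := m16 b
    omega
  have h3 : (2 : ℤ) ^ B ≤ 2 ^ (2 * i + 3) := pow_le_pow_right₀ (by norm_num) hB
  have h4 : ((2 : ℤ) ^ B) ^ 2 ≤ (2 ^ (2 * i + 3)) ^ 2 := by gcongr
  rw [hu, mul_pow, sq4, sq9] at hq
  rw [show ((2 : ℤ) ^ (2 * i + 3)) ^ 2 = 16 ^ i * 64 by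
    rw [pow_add, mul_pow, ← pow_mul, mul_right_comm, pow_mul]; norm_num] at h4
  have hb : b ≤ 1 := by
    by_contra hb
    have : (81 : ℤ) ^ 2 ≤ 81 ^ b := pow_le_pow_right₀ (by norm_num) (by omega)
    have : (0 : ℤ) < 16 ^ i := by positivity
    nlinarith
  interval_cases b
  · left; rw [hu]; ring
  · right; rw [hu]; ring

theorem lt16 {a : ℕ} (h : 16 ^ a ≤ 900 * a ^ 2) : a ≤ 3 := by
  by_contra ha
  have : ∀ n, 4 ≤ n → 900 * n ^ 2 < 16 ^ n := fun n hn => by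
    induction n, hn using Nat.le_induction with
    | base => norm_num
    | succ n hn ih => rw [pow_succ 16]; nlinarith
  exact absurd h (not_le.2 (this a (by omega)))

theorem three {A j e a b : ℕ} (he : e ≤ 1) (hj : 2 * j ≤ A) (hb : e + 2 * b ≤ A) {u : ℤ}
    (hu : u = 6 ^ e * (-4) ^ a * (-9) ^ b) (h : (3 : ℤ) ^ A ∣ (-9) ^ j + u)
    (hq : u ^ 2 ≤ 100 * (3 ^ A) ^ 2) : (-9) ^ j + u = 2 * (-9) ^ j ∨
      (-9) ^ j + u = -3 * (-9) ^ j ∨ (-9) ^ j + u = -63 * (-9) ^ j := by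
  have h1 : 2 * j = e + 2 * b := val_eq Int.prime_three hj hb (p9' j) (p9 j)
    (y := 3 ^ e * (-9) ^ b) (w := 2 ^ e * (-4) ^ a)
    (by rw [pow_add]; exact mul_dvd_mul_left _ (p9' b))
    (by rw [pow_add]; exact mul_dvd_mul_left _ (p9 b))
    (fun h => (Int.prime_three.dvd_or_dvd h).elim
      (fun h => by have := Int.prime_three.dvd_of_dvd_pow h; omega) (m3 a))
    (by rwa [hu, show (6 : ℤ) ^ e * (-4) ^ a * (-9) ^ b = 3 ^ e * (-9) ^ b * (2 ^ e * (-4) ^ a) by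
      rw [show (6 : ℤ) = 2 * 3 by norm_num, mul_pow]; ring] at h)
  obtain rfl : e = 0 := by omega
  obtain rfl : j = b := by omega
  rw [pow_zero, one_mul, mul_comm] at hu
  obtain ⟨d, rfl⟩ := Nat.exists_eq_add_of_le hj
  have h2 : (3 : ℤ) ^ d ∣ 1 + (-4) ^ a := by
    refine (mul_dvd_mul_iff_left (a := 3 ^ (2 * j)) (by positivity)).1 ?_
    rw [← pow_add]
    refine h.trans ?_
    rw [hu, ← mul_one_add]
    exact mul_dvd_mul_right (p9' j) _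
  rw [hu, mul_pow, sq4, sq9, pow_add, mul_pow, ← pow_mul, mul_right_comm, pow_mul] at hq
  have h3 : (16 : ℤ) ^ a ≤ 100 * (3 ^ d) ^ 2 := by
    have : (0 : ℤ) < 81 ^ j := by positivity
    norm_num at hq
    nlinarith
  rcases Nat.eq_zero_or_pos a with rfl | ha
  · left; rw [hu]; ring
  have h4 := le3 ha h2
  have h5 : 16 ^ a ≤ 100 * (3 ^ d) ^ 2 := by exact_mod_cast h3
  have h6 : a ≤ 3 := lt16 (by nlinarith [Nat.pow_le_pow_left h4 2])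
  interval_cases a
  · right; left; rw [hu]; ring
  · rcases d with _ | d
    · norm_num at h5
    · have := (dvd_pow_self 3 d.succ_ne_zero).trans h2
      norm_num at this
  · right; right; rw [hu]; ring

/-- the Brauer--Tuan congruence modulo `X` for the principal block through `T` -/
def BT (X T u v : ℤ) : Prop :=
  X ∣ 1 + T ∨ (¬ u ∣ X ∧ X ∣ 1 + T + u) ∨ (¬ v ∣ X ∧ X ∣ 1 + T + v) ∨
    (¬ u ∣ X ∧ ¬ v ∣ X ∧ X ∣ 1 + T + u + v)

instance (X T u v : ℤ) : Decidable (BT X T u v) := by unfold BT; infer_instance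

theorem BT.symm {X T u v : ℤ} (h : BT X T u v) : BT X T v u := by
  unfold BT at *
  rw [add_right_comm (1 + T) v u]
  tauto

theorem BT.le {X Y S T u v : ℤ} (h : BT X T u v) (hX : 0 < X) (T5 : T ≡ 1 [ZMOD 5])
    (u5 : u ≡ 1 [ZMOD 5]) (v5 : v ≡ 1 [ZMOD 5])
    (hq : 1 + S ^ 2 + T ^ 2 + u ^ 2 + v ^ 2 ≤ 5 * X * Y) : X ≤ 20 * Y := by
  have key : ∀ x y : ℤ, x ^ 2 ≤ u ^ 2 → y ^ 2 ≤ v ^ 2 → 1 + T + x + y ≠ 0 → X ∣ 1 + T + x + y →
      X ≤ 20 * Y := fun x y hx hy h0 hd => by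
    have h1 := Int.le_of_dvd (pow_pos (abs_pos.2 h0) 2) (pow_dvd_pow_of_dvd ((dvd_abs _ _).2 hd) 2)
    rw [sq_abs] at h1
    have h2 : (1 + T + x + y) ^ 2 ≤ 4 * (1 + T ^ 2 + x ^ 2 + y ^ 2) := by
      nlinarith [sq_nonneg (1 - T), sq_nonneg (1 - x), sq_nonneg (1 - y), sq_nonneg (T - x),
        sq_nonneg (T - y), sq_nonneg (x - y)]
    nlinarith [sq_nonneg S]
  unfold Int.ModEq at T5 u5 v5
  rcases h with h | ⟨-, h⟩ | ⟨-, h⟩ | ⟨-, -, h⟩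
  · exact key 0 0 (by simpa using sq_nonneg u) (by simpa using sq_nonneg v) (by omega) (by simpa)
  · exact key u 0 le_rfl (by simpa using sq_nonneg v) (by omega) (by simpa)
  · exact key 0 v (by simpa using sq_nonneg u) le_rfl (by omega) (by simpa)
  · exact key u v le_rfl le_rfl (by omega) h

/-- the surviving degree patterns -/
def Exc (A B : ℕ) (S T u v : ℤ) : Prop :=
  A = 6 ∧ (B = 8 ∨ B = 9) ∧ T = -729 ∧ ((S = 256 ∧ ((u = 216 ∧ v = 256) ∨ (u = 256 ∧ v = 216))) ∨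
    (S = -64 ∧ ((u = 216 ∧ v = 576) ∨ (u = 576 ∧ v = 216))))

instance (A B : ℕ) (S T u v : ℤ) : Decidable (Exc A B S T u v) := by unfold Exc; infer_instance

/-- the hypotheses for given exponents -/
def Hy (A B : ℕ) (S T u v : ℤ) : Prop :=
  S ∣ 2 ^ B ∧ T ∣ 3 ^ A ∧ u ∣ 2 ^ B * 3 ^ A ∧ v ∣ 2 ^ B * 3 ^ A ∧ BT (2 ^ B) T u v ∧
    BT (3 ^ A) S u v ∧ (2 ^ B ∣ S → 3 ^ A ∣ T → S * T < 0) ∧
    1 + S ^ 2 + T ^ 2 + u ^ 2 + v ^ 2 ≤ 5 * 2 ^ B * 3 ^ A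

instance (A B : ℕ) (S T u v : ℤ) : Decidable (Hy A B S T u v) := by unfold Hy; infer_instance

/-- the finite check -/
def Sm (S T u v : ℤ) : Prop :=
  v ∣ 2 ^ 10 * 3 ^ 9 → S ≠ 1 → T ≠ 1 → u ≠ 1 → v ≠ 1 → ∀ B < 11, 6 < B → ∀ A < 10,
    Hy A B S T u v → Exc A B S T u v

instance (S T u v : ℤ) : Decidable (Sm S T u v) := by unfold Sm; infer_instance

theorem small : ∀ i < 6, ∀ j < 5, ∀ e < 2, ∀ a < 6, ∀ b < 5, Sm ((-4) ^ i) ((-9) ^ j)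
    (6 ^ e * (-4) ^ a * (-9) ^ b) (-1 - (-4) ^ i - (-9) ^ j - 6 ^ e * (-4) ^ a * (-9) ^ b) := by
  decide +kernel

theorem g1' {c t σ : ℤ} (hc : c = 1 ∨ c = -3 ∨ c = -63) {j e a b N : ℕ} (he : e ≤ 1)
    (ht : t = 6 ^ e * (-4) ^ a * (-9) ^ b) (h : 1 + c * (-9) ^ j + t = σ) (h1 : σ ∣ 2 ^ N)
    (h2 : 2 ^ 10 ∣ σ) : False := by
  obtain ⟨n, -, hn⟩ := (Nat.dvd_prime_pow Nat.prime_two).1
    (show σ.natAbs ∣ 2 ^ N from Int.natCast_dvd_natCast.1 (by exact_mod_cast Int.natAbs_dvd.2 h1))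
  have hσ : σ = 2 ^ n ∨ σ = -2 ^ n := by exact_mod_cast Int.natAbs_eq_iff.1 hn
  have h10 : 10 ≤ n := le_of_dvd Int.prime_two dvd_rfl (w := 1) Int.prime_two.not_dvd_one
    (by rcases hσ with rfl | rfl; exacts [by simpa using h2, by simpa using h2])
  have ha : a ≤ 1 := by
    by_contra ha
    have h3 : (2 : ℤ) ^ 4 ∣ t := ht ▸
      (((pow_dvd_pow 2 (by omega)).trans (p4 a)).mul_left _).mul_right _
    have := m16 j
    rcases hc with rfl | rfl | rfl <;> omega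
  refine no_g1 hc (r := 6 ^ e * (-4) ^ a) ?_ h10 hσ (ht ▸ h)
  interval_cases e <;> interval_cases a <;> simp

theorem g2' {m n A e a b e' a' b' : ℕ} {u v : ℤ} (he : e ≤ 1) (he' : e' ≤ 1) (hm : 2 ≤ m)
    (hn : 11 ≤ n) (hu : u = 6 ^ e * (-4) ^ a * (-9) ^ b) (hv : v = 6 ^ e' * (-4) ^ a' * (-9) ^ b')
    (hb : e + 2 * b ≤ A) (hb' : e' + 2 * b' ≤ A) (u3 : ¬ u ∣ 3 ^ A) (v3 : ¬ v ∣ 3 ^ A)
    (h : 1 + 81 ^ m + u + v = 2 ^ n) : False := by
  have h81 : (81 : ℤ) ^ m % 16 = 1 := by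
    simpa [Int.ModEq] using (show (81 : ℤ) ≡ 1 [ZMOD 16] by decide).pow m
  have h2 : (2 : ℤ) ^ 4 ∣ 2 ^ n := pow_dvd_pow 2 (by omega)
  have k0 : ∀ {e a b : ℕ} {u : ℤ}, u = 6 ^ e * (-4) ^ a * (-9) ^ b → e + 2 * b ≤ A →
      ¬ u ∣ 3 ^ A → ¬ (e = 0 ∧ a = 0) := by
    rintro e a b u rfl hb h ⟨rfl, rfl⟩
    exact h (by simpa using (p9' b).trans (pow_dvd_pow 3 (by omega)))
  have k1 : ∀ {e a b e' a' b' : ℕ} {u v : ℤ}, e ≤ 1 → u = 6 ^ e * (-4) ^ a * (-9) ^ b →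
      v = 6 ^ e' * (-4) ^ a' * (-9) ^ b' → ¬ (e = 0 ∧ a = 0) → 1 + 81 ^ m + u + v = 2 ^ n →
      a' ≤ 1 := by
    intro e a b e' a' b' u v he hu hv h0 h
    by_contra ha
    have h3 : (2 : ℤ) ^ 4 ∣ v := hv ▸
      (((pow_dvd_pow 2 (by omega)).trans (p4 a')).mul_left _).mul_right _
    rcases Nat.eq_zero_or_pos a with rfl | ha
    · obtain rfl : e = 1 := by omega
      have := m16 b
      omega
    · have h4 : (2 : ℤ) ^ 2 ∣ u := hu ▸
        (((pow_dvd_pow 2 (by omega)).trans (p4 a)).mul_left _).mul_right _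
      omega
  have a0 := k0 hu hb u3
  have a0' := k0 hv hb' v3
  have a1' := k1 he hu hv a0 h
  have a1 := k1 he' hv hu a0' (by rw [← h]; ring)
  refine no_g2 (r := 6 ^ e * (-4) ^ a) (s := 6 ^ e' * (-4) ^ a') ?_ ?_ hm hn (hu ▸ hv ▸ h)
  · interval_cases e <;> interval_cases a <;> simp at a0 ⊢
  · interval_cases e' <;> interval_cases a' <;> simp at a0' ⊢

theorem core {A B : ℕ} {S T u v : ℤ} (S5 : S ≡ 1 [ZMOD 5]) (T5 : T ≡ 1 [ZMOD 5])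
    (u5 : u ≡ 1 [ZMOD 5]) (v5 : v ≡ 1 [ZMOD 5]) (S1 : S ≠ 1) (T1 : T ≠ 1) (u1 : u ≠ 1)
    (v1 : v ≠ 1) (hs : 1 + S + T + u + v = 0) (H : Hy A B S T u v) :
    B ≤ 6 ∨ Exc A B S T u v := by
  obtain ⟨hS, hT, hu, hv, HI, HJ, hsg, hq⟩ := id H
  have l1 := HI.le (by positivity) T5 u5 v5 hq
  have l2 := HJ.le (Y := 2 ^ B) (S := T) (by positivity) S5 u5 v5 (by linarith)
  obtain ⟨e, i, b, -, hi, hb, rfl⟩ := sm_of (A := 0) S5 (by simpa using hS)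
  obtain ⟨rfl, rfl⟩ : e = 0 ∧ b = 0 := by omega
  obtain ⟨e, a, j, -, ha, hj, rfl⟩ := sm_of (B := 0) T5 (by simpa using hT)
  obtain ⟨rfl, rfl⟩ : e = 0 ∧ a = 0 := by omega
  clear ha hb
  simp only [pow_zero, one_mul, mul_one, zero_add] at *
  obtain ⟨e, a, b, he, ha, hb, eu⟩ := sm_of u5 hu
  obtain ⟨e', a', b', he', ha', hb', ev⟩ := sm_of v5 hv
  by_cases hB : B < 11
  · have hA : A < 10 := by
      by_contra hA
      have : (3 : ℤ) ^ 10 ≤ 3 ^ A := pow_le_pow_right₀ (by norm_num) (by omega)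
      have : (2 : ℤ) ^ B ≤ 2 ^ 10 := pow_le_pow_right₀ (by norm_num) (by omega)
      omega
    refine (le_or_gt B 6).imp_right fun h6 => ?_
    have := small i (by omega) j (by omega) e (by omega) a (by omega) b (by omega)
    rw [← eu, show -1 - (-4) ^ i - (-9) ^ j - u = v by linarith] at this
    exact this (hv.trans (mul_dvd_mul (pow_dvd_pow 2 (by omega)) (pow_dvd_pow 3 (by omega))))
      S1 T1 u1 v1 B hB h6 A hA H
  exfalso
  have X0 : (2 : ℤ) ^ 11 ≤ 2 ^ B := pow_le_pow_right₀ (by norm_num) (by omega)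
  have hA : 5 ≤ A := by
    by_contra hA
    have : (3 : ℤ) ^ A ≤ 3 ^ 4 := pow_le_pow_right₀ (by norm_num) (by omega)
    omega
  have Y0 : (0 : ℤ) < 3 ^ A := by positivity
  have d10 : (2 : ℤ) ^ 10 ∣ 2 ^ B := pow_dvd_pow 2 (by omega)
  have d3 : (3 : ℤ) ∣ 3 ^ A := dvd_pow_self 3 (by omega)
  have bu : u ^ 2 ≤ 100 * (2 ^ B) ^ 2 ∧ u ^ 2 ≤ 100 * (3 ^ A) ^ 2 := by
    constructor <;> nlinarith [sq_nonneg ((-4 : ℤ) ^ i), sq_nonneg ((-9 : ℤ) ^ j), sq_nonneg v]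
  have bv : v ^ 2 ≤ 100 * (2 ^ B) ^ 2 ∧ v ^ 2 ≤ 100 * (3 ^ A) ^ 2 := by
    constructor <;> nlinarith [sq_nonneg ((-4 : ℤ) ^ i), sq_nonneg ((-9 : ℤ) ^ j), sq_nonneg u]
  have c2 : ∀ {x y : ℤ} {e a b e' a' b' : ℕ}, e ≤ 1 → e' ≤ 1 → x = 6 ^ e * (-4) ^ a * (-9) ^ b →
      y = 6 ^ e' * (-4) ^ a' * (-9) ^ b' → e' + 2 * a' ≤ B → y ^ 2 ≤ 100 * (2 ^ B) ^ 2 →
      1 + (-4) ^ i + (-9) ^ j + x + y = 0 → ¬ (2 : ℤ) ^ B ∣ 1 + (-9) ^ j + x := by
    intro x y e a b e' a' b' he he' ex ey ha' hy hs h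
    have h1 : (2 : ℤ) ^ B ∣ (-4) ^ i + y := by
      rw [show (-4) ^ i + y = -(1 + (-9) ^ j + x) by linarith]; exact h.neg_right
    refine g1' (.inl rfl) he ex (N := B + 3) (j := j) rfl ?_ (by simpa using d10.trans h)
    rw [pow_add]
    rcases two he' hi ha' ey h1 hy with h2 | h2
    · rw [show 1 + 1 * (-9) ^ j + x = (-4) ^ i * (-2) by linarith]
      exact mul_dvd_mul hS (by norm_num)
    · rw [show 1 + 1 * (-9) ^ j + x = (-4) ^ i * 8 by linarith]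
      exact mul_dvd_mul hS (by norm_num)
  rcases HI with h | ⟨-, h⟩ | ⟨-, h⟩ | ⟨u2, v2, h⟩
  · have := (show (16 : ℤ) ∣ 2 ^ 10 by norm_num).trans (d10.trans h)
    have := m16 j
    omega
  · exact c2 he he' eu ev ha' bv.1 hs h
  · exact c2 he' he ev eu ha bu.1 (by linarith) h
  have hX : (2 : ℤ) ^ B ∣ (-4) ^ i := by
    rw [show (-4) ^ i = -(1 + (-9) ^ j + u + v) by linarith]; exact h.neg_right
  have c3 : ∀ {x y : ℤ} {e a b e' a' b' : ℕ}, e ≤ 1 → e' ≤ 1 → x = 6 ^ e * (-4) ^ a * (-9) ^ b →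
      y = 6 ^ e' * (-4) ^ a' * (-9) ^ b' → e + 2 * b ≤ A → e' + 2 * b' ≤ A →
      y ^ 2 ≤ 100 * (3 ^ A) ^ 2 → 1 + (-4) ^ i + (-9) ^ j + x + y = 0 → ¬ x ∣ 3 ^ A →
      ¬ (3 : ℤ) ^ A ∣ 1 + (-4) ^ i + x := by
    intro x y e a b e' a' b' he he' ex ey hb hb' hy hs x3 h
    have h1 : (3 : ℤ) ^ A ∣ (-9) ^ j + y := by
      rw [show (-9) ^ j + y = -(1 + (-4) ^ i + x) by linarith]; exact h.neg_right
    rcases three he' hj hb' ey h1 hy with h2 | h2 | h2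
    · have h3 := (show (2 : ℤ) ∣ 2 ^ 10 by norm_num).trans (d10.trans hX)
      have h4 : ¬ (2 : ℤ) ∣ x := by omega
      refine x3 ?_
      obtain rfl : e = 0 := by
        by_contra h0
        exact h4 (ex ▸ (((show (2 : ℤ) ∣ 6 by norm_num).trans
          (dvd_pow_self 6 h0)).mul_right _).mul_right _)
      obtain rfl : a = 0 := by
        by_contra h0
        exact h4 (ex ▸ (((show (2 : ℤ) ∣ -4 by norm_num).trans
          (dvd_pow_self _ h0)).mul_left _).mul_right _)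
      simpa [ex] using (p9' b).trans (pow_dvd_pow 3 (by omega))
    · exact g1' (.inr (.inl rfl)) he ex (j := j) (σ := -(-4) ^ i) (by linarith) hS.neg_left
        (d10.trans hX).neg_right
    · exact g1' (.inr (.inr rfl)) he ex (j := j) (σ := -(-4) ^ i) (by linarith) hS.neg_left
        (d10.trans hX).neg_right
  have i0 : 0 < i := Nat.pos_of_ne_zero (by rintro rfl; exact S1 (pow_zero _))
  rcases HJ with h' | ⟨u3, h'⟩ | ⟨v3, h'⟩ | ⟨u3, v3, h'⟩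
  · have h1 := le3 i0 h'
    have h2 : (2 : ℤ) ^ (2 * i) ≤ 2 ^ B := pow_le_pow_right₀ (by norm_num) hi
    have h3 : 2 ^ (2 * i) ≤ 20 * 3 ^ A := by exact_mod_cast h2.trans l1
    have h4 : 3 ^ 5 ≤ 3 ^ A := Nat.pow_le_pow_right (by norm_num) hA
    have h5 : i ≤ 3 := by
      have : ∀ n, 4 ≤ n → 60 * n < 2 ^ (2 * n) := fun n hn => by
        induction n, hn using Nat.le_induction with
        | base => norm_num
        | succ n hn ih => rw [mul_add 2, pow_add]; omega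
      by_contra h5
      have := this i (by omega)
      omega
    omega
  · exact c3 he he' eu ev hb hb' bv.2 hs u3 h'
  · exact c3 he' he ev eu hb' hb bu.2 (by linarith) v3 h'
  have hY : (3 : ℤ) ^ A ∣ (-9) ^ j := by
    rw [show (-9) ^ j = -(1 + (-4) ^ i + u + v) by linarith]; exact h'.neg_right
  have k3 : ∀ {x : ℤ} {e a b : ℕ}, x = 6 ^ e * (-4) ^ a * (-9) ^ b → e + 2 * a ≤ B →
      ¬ x ∣ 2 ^ B → 3 ∣ x := by
    rintro x e a b rfl ha h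
    by_contra h3
    obtain rfl : e = 0 := by
      by_contra h0
      exact h3 ((((show (3 : ℤ) ∣ 6 by norm_num).trans
        (dvd_pow_self 6 h0)).mul_right _).mul_right _)
    obtain rfl : b = 0 := by
      by_contra h0
      exact h3 (((show (3 : ℤ) ∣ -9 by norm_num).trans (dvd_pow_self _ h0)).mul_left _)
    exact h (by simpa using (p4' a).trans (pow_dvd_pow 2 (by omega)))
  have h1 := k3 eu ha u2
  have h2 := k3 ev ha' v2
  have h3 := d3.trans hY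
  have eB : B = 2 * i := le_antisymm (le_of_dvd Int.prime_two (p4' i) (w := 1)
    Int.prime_two.not_dvd_one (by simpa using hX)) hi
  have eA : A = 2 * j := le_antisymm (le_of_dvd Int.prime_three (p9' j) (w := 1)
    Int.prime_three.not_dvd_one (by simpa using hY)) hj
  have hsg := hsg hX hY
  rcases Nat.even_or_odd' i with ⟨i, rfl | rfl⟩
  · have : (16 : ℤ) ^ i % 3 = 1 := by
      simpa [Int.ModEq] using (show (16 : ℤ) ≡ 1 [ZMOD 3] by decide).pow i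
    rw [pow_mul] at hs
    norm_num at hs
    omega
  have eS : (-4 : ℤ) ^ (2 * i + 1) = -2 ^ B := by
    rw [eB, pow_mul 2 2, Odd.neg_pow ⟨i, rfl⟩]; norm_num
  rcases Nat.even_or_odd' j with ⟨j, rfl | rfl⟩
  · refine g2' (m := j) he he' (by omega) (not_lt.1 hB) eu ev hb hb' u3 v3 ?_
    rw [eS, pow_mul] at hs
    norm_num at hs
    linarith
  · rw [eS, Odd.neg_pow ⟨j, rfl⟩] at hsg
    have : (0 : ℤ) < 2 ^ B * 9 ^ (2 * j + 1) := by positivity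
    linarith

end CL.K4
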