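import Cfsg.Agent.INV.K4.Sv0

/-! The two exponential equations excluded by the sieves. -/

set_option autoImplicit false

namespace CL.K4
open CL.Ix2

theorem dvd_of_modEq {N M x : ℕ} {z : ℤ} (h : (x : ℤ) ≡ z [ZMOD N]) (hM : M ∣ N)
    (hz : (M : ℤ) ∣ z) : x % M = 0 := by
  have h1 := (h.of_dvd (Int.natCast_dvd_natCast.2 hM)).trans (Int.modEq_zero_iff_dvd.2 hz)
  exact Nat.mod_eq_zero_of_dvd (Int.natCast_dvd_natCast.1 (Int.modEq_zero_iff_dvd.1 h1))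

theorem no_g1 {c r : ℤ} (hc : c = 1 ∨ c = -3 ∨ c = -63) (hr : r = 1 ∨ r = 6 ∨ r = -4 ∨ r = -24)
    {j b n : ℕ} (hn : 10 ≤ n) {σ : ℤ} (hσ : σ = 2 ^ n ∨ σ = -2 ^ n)
    (h : 1 + c * (-9) ^ j + r * (-9) ^ b = σ) : False := by
  obtain ⟨c', c1, c2⟩ : ∃ c' ∈ [1, N1 - 3, N1 - 63], ((c' : ℕ) : ℤ) ≡ c [ZMOD N1] := by
    rcases hc with rfl | rfl | rfl <;> decide +kernel
  obtain ⟨r', r1, r2⟩ : ∃ r' ∈ [1, 6, N1 - 4, N1 - 24], ((r' : ℕ) : ℤ) ≡ r [ZMOD N1] := by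
    rcases hr with rfl | rfl | rfl | rfl <;> decide +kernel
  have p9 : (-9 : ℤ) ^ (1 + 128) ≡ (-9) ^ 1 [ZMOD N1] := by decide +kernel
  have w9 : ((N1 - 9 : ℕ) : ℤ) ≡ -9 [ZMOD N1] := by decide +kernel
  obtain ⟨j', j1, j2, -⟩ := exists_red (by norm_num) p9 j
  obtain ⟨b', b1, b2, -⟩ := exists_red (by norm_num) p9 b
  obtain ⟨n', n1, n2, n3⟩ := exists_red (N := N1) (a := 2) (β := 10) (l := 16) (by norm_num)
    (by decide +kernel) n
  obtain ⟨k, rfl⟩ := Nat.exists_eq_add_of_le (n3 hn)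
  have hv : ((1 + c' * ((N1 - 9) ^ j' % N1) + r' * ((N1 - 9) ^ b' % N1) : ℕ) : ℤ) ≡ σ [ZMOD N1] := by
    rw [← h, Nat.cast_add, Nat.cast_add, Nat.cast_mul, Nat.cast_mul, Nat.cast_one]
    exact ((Int.ModEq.refl 1).add (c2.mul ((cast_red w9 j').trans j2.symm))).add
      (r2.mul ((cast_red w9 b').trans b2.symm))
  have key := g1_all c' c1 r' r1
  simp only [g1, allB_iff, frc_eq, Bool.or_eq_true, bne_iff_ne, Bool.and_eq_true] at key
  replace key := key j' j1 b' b1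
  generalize 1 + c' * ((N1 - 9) ^ j' % N1) + r' * ((N1 - 9) ^ b' % N1) = v at hv key
  have d : ((1024 : ℕ) : ℤ) ∣ 2 ^ n := by
    rw [show ((1024 : ℕ) : ℤ) = 2 ^ 10 by norm_num]; exact pow_dvd_pow 2 hn
  rcases key with key | key
  · exact key (dvd_of_modEq hv (by decide) (by rcases hσ with rfl | rfl; exacts [d, d.neg_right]))
  obtain ⟨k1, k2⟩ := key k (by omega)
  rcases hσ with rfl | rfl
  · refine k2 (dvd_of_modEq (z := 2 ^ n + -1 * 2 ^ n) ?_ dvd_rfl (by simp))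
    rw [Nat.cast_add, Nat.cast_mul, Nat.cast_pow]
    exact hv.add (.mul (by decide +kernel) n2.symm)
  · refine k1 (dvd_of_modEq (z := -2 ^ n + 2 ^ n) ?_ dvd_rfl (by simp))
    rw [Nat.cast_add, Nat.cast_pow]
    exact hv.add n2.symm

theorem no_g2 {r s : ℤ} (hr : r = 6 ∨ r = -4 ∨ r = -24) (hs : s = 6 ∨ s = -4 ∨ s = -24)
    {m j b n : ℕ} (hm : 2 ≤ m) (hn : 11 ≤ n)
    (h : 1 + 81 ^ m + r * (-9) ^ j + s * (-9) ^ b = 2 ^ n) : False := by
  have ex : ∀ r : ℤ, r = 6 ∨ r = -4 ∨ r = -24 →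
      ∃ r' ∈ [6, N2 - 4, N2 - 24], ((r' : ℕ) : ℤ) ≡ r [ZMOD N2] := by
    rintro r (rfl | rfl | rfl) <;> decide +kernel
  obtain ⟨r', r1, r2⟩ := ex r hr
  obtain ⟨s', s1, s2⟩ := ex s hs
  have p9 : (-9 : ℤ) ^ (3 + 12) ≡ (-9) ^ 3 [ZMOD N2] := by decide +kernel
  have w9 : ((N2 - 9 : ℕ) : ℤ) ≡ -9 [ZMOD N2] := by decide +kernel
  obtain ⟨j', j1, j2, -⟩ := exists_red (by norm_num) p9 j
  obtain ⟨b', b1, b2, -⟩ := exists_red (by norm_num) p9 b
  obtain ⟨m', m1, m2, m3⟩ := exists_red (N := N2) (a := 81) (β := 2) (l := 6) (by norm_num)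
    (by decide +kernel) m
  obtain ⟨m', rfl⟩ := Nat.exists_eq_add_of_le (m3 hm)
  obtain ⟨n', n1, n2, n3⟩ := exists_red (N := N2) (a := 2) (β := 11) (l := 1620) (by norm_num)
    (by decide +kernel) n
  obtain ⟨k, rfl⟩ := Nat.exists_eq_add_of_le (n3 hn)
  have hv : ((1 + 81 ^ (2 + m') + r' * ((N2 - 9) ^ j' % N2) + s' * ((N2 - 9) ^ b' % N2) : ℕ) : ℤ) ≡
      2 ^ n [ZMOD N2] := by
    rw [← h, Nat.cast_add, Nat.cast_add, Nat.cast_add, Nat.cast_mul, Nat.cast_mul, Nat.cast_one,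
      Nat.cast_pow]
    exact (((Int.ModEq.refl 1).add m2.symm).add (r2.mul ((cast_red w9 j').trans j2.symm))).add
      (s2.mul ((cast_red w9 b').trans b2.symm))
  have key := g2_all r' r1 s' s1
  simp only [g2, allB_iff, frc_eq, Bool.or_eq_true, bne_iff_ne] at key
  replace key := key m' (by omega) j' j1 b' b1
  generalize 1 + 81 ^ (2 + m') + r' * ((N2 - 9) ^ j' % N2) + s' * ((N2 - 9) ^ b' % N2) = v
    at hv key
  rcases key with key | key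
  · refine key (dvd_of_modEq hv (by decide) ?_)
    rw [show ((32 : ℕ) : ℤ) = 2 ^ 5 by norm_num]; exact pow_dvd_pow 2 (by omega)
  have hw : v ≡ 2 ^ (11 + k) [MOD N2] := by
    rw [← Int.natCast_modEq_iff, Nat.cast_pow]; exact hv.trans n2
  rcases key (k % 60) (Nat.mod_lt _ (by norm_num)) with key | key
  · refine key ((hw.of_dvd (by decide)).trans ?_)
    have : 2 ^ 60 ≡ 1 [MOD 2665] := by decide +kernel
    conv_lhs => rw [← Nat.mod_add_div k 60, ← add_assoc, pow_add, pow_mul]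
    simpa using (this.pow (k / 60)).mul_left (2 ^ (11 + k % 60))
  · exact key (k / 60) (by omega) (by rwa [Nat.mod_add_div])

end CL.K4
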