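import Cfsg.Agent.INV.Ix2.Num

/-! The degree equation of the principal `5`-block of a simple group of order `5 * 3 ^ A * 2 ^ B`:
modular sieves. -/

set_option autoImplicit false

namespace CL.K4
open CL.Ix2

theorem exists_red {N : ℕ} {a : ℤ} {β l : ℕ} (hl : 0 < l) (h : a ^ (β + l) ≡ a ^ β [ZMOD N])
    (e : ℕ) : ∃ e' < β + l, a ^ e ≡ a ^ e' [ZMOD N] ∧ (β ≤ e → β ≤ e') := by
  induction e using Nat.strong_induction_on with
  | _ e ih =>
    by_cases he : e < β + l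
    · exact ⟨e, he, .refl _, id⟩
    obtain ⟨r, rfl⟩ := Nat.exists_eq_add_of_le (not_lt.1 he)
    obtain ⟨e', h1, h2, h3⟩ := ih (β + r) (by omega)
    refine ⟨e', h1, .trans ?_ h2, fun _ => h3 (by omega)⟩
    rw [pow_add a (β + l), pow_add a β r]
    exact h.mul_right _

theorem cast_red {N w : ℕ} {a : ℤ} (h : (w : ℤ) ≡ a [ZMOD N]) (e : ℕ) :
    ((w ^ e % N : ℕ) : ℤ) ≡ a ^ e [ZMOD N] := by
  push_cast
  exact (Int.mod_modEq _ _).trans (h.pow e)

def N1 : ℕ := 67107840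

def g1 (c r : ℕ) : Bool :=
  allB (fun j => frc (1 + c * ((N1 - 9) ^ j % N1)) fun x =>
    allB (fun b => frc (x + r * ((N1 - 9) ^ b % N1)) fun v => v % 1024 != 0 ||
      allB (fun n => (v + 2 ^ (10 + n)) % N1 != 0 && (v + (N1 - 1) * 2 ^ (10 + n)) % N1 != 0) 16)
    129) 129

theorem g1_all : ∀ c ∈ [1, N1 - 3, N1 - 63], ∀ r ∈ [1, 6, N1 - 4, N1 - 24], g1 c r = true := by
  decide +kernel

def N2 : ℕ := 68630377364640

def g2 (r s : ℕ) : Bool :=
  allB (fun m => allB (fun j => frc (1 + 81 ^ (2 + m) + r * ((N2 - 9) ^ j % N2)) fun x =>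
    allB (fun b => frc (x + s * ((N2 - 9) ^ b % N2)) fun v => v % 32 != 0 ||
      allB (fun n => v % 2665 != 2 ^ (11 + n) % 2665 ||
        allB (fun i => v % N2 != 2 ^ (11 + (n + 60 * i)) % N2) 27) 60) 15) 15) 6

theorem g2_all : ∀ r ∈ [6, N2 - 4, N2 - 24], ∀ s ∈ [6, N2 - 4, N2 - 24], g2 r s = true := by
  decide +kernel

end CL.K4
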